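import Cfsg.Agent.Phan.Ext
import Cfsg.Agent.LieClassical.SUBasic
import Cfsg.Agent.OddTab.Base
import Cfsg.Agent.LieClassical.HermPerfect
import Cfsg.Agent.S0283
import Mathlib.GroupTheory.SpecificGroups.Alternating
import Cfsg.Agent.FastGrp
import Cfsg.Agent.Prune
set_option linter.all false

section
prune_inst 0x7f00000000000000000000000000000000000000000000000000000000000000000000000000000000000000000000000000000000000000000000000000000000000000000000000000000000000000003fffffffffffffffffffffffffffbeffbdffffffff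

-- part: GenPsu/Block
section
set_option linter.all false
open scoped Cfsg.Agent.FastGrp

/-!
# Blocks of `SU_n(q)` and components of centralizers in central quotients (helper31)

* `three_invol` : three independent commuting involutions give `PRankAtLeast 2 3`;
* `subnormal_lift` : `φ : X → K` onto with central kernel, `y ∈ X`, `e : H → X` with image normalized by `C_X(y)` and
  centralized by `y`: the image of `H` in `K` is subnormal in `C_K(φ y)`;
* `ext_conj_diag` : an element of `SU_n` commuting with a diagonal element `a` on the block, `b ≠ a` off the block,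
  normalizes the block `SU_m`;
* `block_comp` : the image of the block is a component of the centralizer of the image of the diagonal element.
-/

set_option autoImplicit false

namespace Cfsg.Agent.GenPsu

open Matrix Subgroup Cfsg Cfsg.Agent.Phan
open Cfsg.Agent.SignalizersComponents.Components
open Cfsg.Agent.LieClassical.SUBasic (suDiag)

universe u v w

/-- three independent commuting involutions -/
theorem three_invol {G : Type*} [Group G] [Finite G] {u v w : G} (hu : u * u = 1) (hv : v * v = 1) (hw : w * w = 1)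
    (huv : u * v = v * u) (huw : u * w = w * u) (hvw : v * w = w * v) (h1 : u ≠ 1) (h2 : v ≠ 1) (h3 : w ≠ 1)
    (h12 : u ≠ v) (h13 : u ≠ w) (h23 : v ≠ w) (h123 : u * v ≠ w) : PRankAtLeast 2 3 G := by
  have hcomm : ∀ x ∈ ({u, v, w} : Set G), ∀ y ∈ ({u, v, w} : Set G), x * y = y * x := by
    rintro x (rfl | rfl | rfl) y (rfl | rfl | rfl) <;> first | rfl | assumption | (symm; assumption)
  let A : Subgroup G := _root_.Subgroup.closure {u, v, w}
  have hA : IsMulCommutative A := by
    refine ⟨⟨fun a b => ?_⟩⟩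
    have h4 : A ≤ centralizer (A : Set G) := by
      rw [closure_le]
      intro x hx
      rw [SetLike.mem_coe, mem_centralizer_iff]
      intro y hy
      refine closure_induction (p := fun y _ => y * x = x * y) ?_ ?_ ?_ ?_ hy
      · intro z hz
        exact hcomm z hz x hx
      · rw [one_mul, mul_one]
      · intro a b _ _ ha hb
        rw [mul_assoc, hb, ← mul_assoc, ha, mul_assoc]
      · intro a _ ha
        have : Commute a x := ha
        exact this.inv_left
    exact Subtype.ext ((mem_centralizer_iff.1 (h4 a.2)) b b.2).symm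
  have hexp : ∀ a ∈ A, a ^ 2 = 1 := by
    intro a ha
    refine closure_induction (p := fun y _ => y ^ 2 = 1) ?_ ?_ ?_ ?_ ha
    · rintro z (rfl | rfl | rfl) <;> rw [pow_two] <;> assumption
    · rw [one_pow]
    · intro a b ha hb ha2 hb2
      have h5 : a * b = b * a := congrArg Subtype.val (hA.is_comm.comm (⟨a, ha⟩ : A) ⟨b, hb⟩)
      rw [(show Commute a b from h5).mul_pow, ha2, hb2, one_mul]
    · intro a _ ha2
      rw [inv_pow, ha2, inv_one]
  refine ⟨A, hA, hexp, ?_⟩
  have huA : u ∈ A := _root_.Subgroup.subset_closure (by simp)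
  have hvA : v ∈ A := _root_.Subgroup.subset_closure (by simp)
  have hwA : w ∈ A := _root_.Subgroup.subset_closure (by simp)
  -- eight different elements
  let f : Bool × Bool × Bool → A := fun t =>
    ⟨(if t.1 then u else 1) * (if t.2.1 then v else 1) * (if t.2.2 then w else 1), by
      refine mul_mem (mul_mem ?_ ?_) ?_ <;> split_ifs <;> first | assumption | exact one_mem _⟩
  have hf : Function.Injective f := by
    have e1 : u * w ≠ 1 := fun h => h13 (by
      calc u = u * (w * w) := by rw [hw, mul_one]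
        _ = w := by rw [← mul_assoc, h, one_mul])
    rintro ⟨a, b, c⟩ ⟨a', b', c'⟩ h
    have h4 := congrArg Subtype.val h
    simp only [f] at h4
    have k1 : u * v ≠ 1 := fun h => h12 (by
      calc u = u * (v * v) := by rw [hv, mul_one]
        _ = v := by rw [← mul_assoc, h, one_mul])
    have k2 : v * w ≠ 1 := fun h => h23 (by
      calc v = v * (w * w) := by rw [hw, mul_one]
        _ = w := by rw [← mul_assoc, h, one_mul])
    have k3 : u * v * w ≠ 1 := fun h => h123 (by
      calc u * v = u * v * (w * w) := by rw [hw, mul_one]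
        _ = w := by rw [← mul_assoc, h, one_mul])
    have k4 : u * v ≠ u := fun h => h2 (by simpa using h)
    have k5 : u * v ≠ v := fun h => h1 (by simpa using h)
    have k6 : u * w ≠ u := fun h => h3 (by simpa using h)
    have k7 : u * w ≠ w := fun h => h1 (by simpa using h)
    have k8 : v * w ≠ v := fun h => h3 (by simpa using h)
    have k9 : v * w ≠ w := fun h => h2 (by simpa using h)
    have k10 : u * v * w ≠ u * v := fun h => h3 (by simpa using h)
    have k11 : u * v * w ≠ u * w := fun h => h2 (by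
      rw [mul_assoc] at h
      have := mul_left_cancel h
      simpa using this)
    have k12 : u * v * w ≠ v * w := fun h => h1 (by
      rw [mul_assoc] at h
      simpa using h)
    have k13 : u * v ≠ u * w := fun h => h23 (mul_left_cancel h)
    have k14 : u * w ≠ v * w := fun h => h12 (mul_right_cancel h)
    have k15 : u * v ≠ v * w := fun h => h13 (by rw [huv] at h; exact mul_left_cancel h)
    have k16 : u ≠ v * w := fun h => h123 (by
      calc u * v = v * w * v := by rw [← h]
        _ = v * (v * w) := by rw [mul_assoc, hvw]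
        _ = w := by rw [← mul_assoc, hv, one_mul])
    have k17 : v ≠ u * w := fun h => h123 (by
      calc u * v = u * (u * w) := by rw [← h]
        _ = w := by rw [← mul_assoc, hu, one_mul])
    have k18 : u * v * w ≠ u := fun h => k2 (by
      rw [mul_assoc] at h
      simpa using h)
    have k19 : u * v * w ≠ v := fun h => e1 (by
      rw [huv, mul_assoc] at h
      simpa using h)
    have k20 : u * v * w ≠ w := fun h => k1 (by simpa only [_root_.mul_eq_right] using h)
    cases a <;> cases b <;> cases c <;> cases a' <;> cases b' <;> cases c' <;>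
      simp only [if_true, if_false, Bool.false_eq_true, one_mul, mul_one] at h4 <;>
      first
        | rfl
        | (exfalso; exact absurd h4 (by assumption))
        | (exfalso; exact absurd h4.symm (by assumption))
  have h5 := Nat.card_le_card_of_injective f hf
  have h6 : Nat.card (Bool × Bool × Bool) = 8 := by
    rw [Nat.card_eq_fintype_card]
    rfl
  rw [h6] at h5
  simpa only [_root_.Nat.reducePow, _root_.ge_iff_le] using h5

section Lift

variable {X : Type u} {H : Type v} {K : Type w} [Group X] [Group H] [Group K]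

/-- `C_X(y)` is normal in the preimage of `C_K(φ y)`: a subgroup normalized by `C_X(y)` and centralized by `y` has an image
subnormal in `C_K(φ y)` -/
theorem subnormal_lift (φ : X →* K) (hs : Function.Surjective φ) (hk : φ.ker ≤ center X) (e : H →* X) {y : X}
    (hz : ∀ a, e a * y = y * e a) (hn : ∀ g : X, g * y = y * g → ∀ a, ∃ b, e b = g * e a * g⁻¹) :
    ((φ.comp e).range.subgroupOf (centralizer {φ y})).IsSubnormal := by
  set C := centralizer {φ y} with hC
  set D := (centralizer {y}).map φ with hD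
  have hDC : D ≤ C := by
    rintro _ ⟨g, hg, rfl⟩
    rw [SetLike.mem_coe, mem_centralizer_singleton_iff] at hg
    rw [hC, mem_centralizer_singleton_iff, ← map_mul, ← map_mul, hg]
  have hJD : (φ.comp e).range ≤ D := by
    rintro _ ⟨a, rfl⟩
    refine ⟨e a, ?_, rfl⟩
    rw [SetLike.mem_coe, mem_centralizer_singleton_iff]
    exact hz a
  have hlift : ∀ g : X, φ g ∈ C → g * y * g⁻¹ * y⁻¹ ∈ φ.ker := by
    intro g hg
    rw [hC, mem_centralizer_singleton_iff] at hg
    rw [MonoidHom.mem_ker, map_mul, map_mul, map_mul, map_inv, map_inv]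
    rw [hg]
    group
  have hnorm1 : ((φ.comp e).range.subgroupOf D).Normal := by
    constructor
    rintro ⟨x, hx⟩ hxJ ⟨g, hg⟩
    obtain ⟨g', hg', rfl⟩ := hg
    rw [mem_subgroupOf] at hxJ ⊢
    obtain ⟨a, ha⟩ := hxJ
    simp only at ha
    rw [SetLike.mem_coe, mem_centralizer_singleton_iff] at hg'
    obtain ⟨b, hb⟩ := hn g' hg' a
    refine ⟨b, ?_⟩
    simp only [MonoidHom.comp_apply] at ha ⊢
    rw [hb, map_mul, map_mul, map_inv, ha]
    rfl
  have hnorm2 : (D.subgroupOf C).Normal := by
    constructor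
    rintro ⟨x, hx⟩ hxD ⟨g, hg⟩
    rw [mem_subgroupOf] at hxD ⊢
    obtain ⟨x', hx', hxx⟩ := hxD
    obtain ⟨g', rfl⟩ := hs g
    simp only at hxx
    subst hxx
    refine ⟨g' * x' * g'⁻¹, ?_, by simp only [_root_.map_mul, _root_.map_inv, _root_.MulMemClass.mk_mul_mk, _root_.Subgroup.coe_mul, _root_.InvMemClass.coe_inv]⟩
    rw [SetLike.mem_coe, mem_centralizer_singleton_iff] at hx' ⊢
    have h1 := hk (hlift g' hg)
    set k := g' * y * g'⁻¹ * y⁻¹ with hkd
    have hkc : ∀ w, w * k⁻¹ = k⁻¹ * w := fun w => mem_center_iff.mp (inv_mem h1) w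
    have h2 : g'⁻¹ * y * g' = y * k⁻¹ := by
      calc g'⁻¹ * y * g' = g'⁻¹ * (y * k⁻¹) * k * g' := by group
        _ = g'⁻¹ * (k⁻¹ * y) * k * g' := by rw [hkc]
        _ = g'⁻¹ * k⁻¹ * (y * k) * g' := by group
        _ = g'⁻¹ * k⁻¹ * (k * y) * g' := by rw [mem_center_iff.mp h1 y]
        _ = g'⁻¹ * k⁻¹ * (g' * y * g'⁻¹) * g' := by rw [hkd]; group
        _ = g'⁻¹ * (k⁻¹ * g') * y := by group
        _ = g'⁻¹ * (g' * k⁻¹) * y := by rw [hkc]
        _ = k⁻¹ * y := by group
        _ = y * k⁻¹ := by rw [hkc]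
    calc g' * x' * g'⁻¹ * y = g' * x' * (g'⁻¹ * y * g') * g'⁻¹ := by group
      _ = g' * x' * (y * k⁻¹) * g'⁻¹ := by rw [h2]
      _ = g' * (x' * y) * k⁻¹ * g'⁻¹ := by group
      _ = g' * (y * x') * k⁻¹ * g'⁻¹ := by rw [hx']
      _ = g' * y * (x' * k⁻¹) * g'⁻¹ := by group
      _ = g' * y * (k⁻¹ * x') * g'⁻¹ := by rw [hkc]
      _ = g' * (y * k⁻¹) * x' * g'⁻¹ := by group
      _ = g' * (g'⁻¹ * y * g') * x' * g'⁻¹ := by rw [h2]
      _ = y * (g' * x' * g'⁻¹) := by group
  refine IsSubnormal.step _ (D.subgroupOf C) ?_ hnorm2.isSubnormal ?_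
  · intro x hx
    exact hJD hx
  · constructor
    rintro ⟨⟨x, hxC⟩, hxD⟩ hxJ ⟨⟨g, hgC⟩, hgD⟩
    have := hnorm1.conj_mem ⟨x, hxD⟩ hxJ ⟨g, hgD⟩
    exact this

/-- **a block gives a component of the centralizer** -/
theorem comp_lift (φ : X →* K) (hs : Function.Surjective φ) (hk : φ.ker ≤ center X) (e : H →* X) {y : X}
    (hH : IsQuasisimple H) (hz : ∀ a, e a * y = y * e a)
    (hn : ∀ g : X, g * y = y * g → ∀ a, ∃ b, e b = g * e a * g⁻¹)
    (hi : Function.Injective (φ.comp e)) :
    IsComponentOf (φ.comp e).range (centralizer ({φ y} : Set K)) := by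
  have hle : (φ.comp e).range ≤ centralizer ({φ y} : Set K) := by
    rintro _ ⟨a, rfl⟩
    rw [mem_centralizer_singleton_iff]
    simp only [MonoidHom.comp_apply]
    rw [← map_mul, ← map_mul, hz a]
  refine ⟨hle, subnormal_lift φ hs hk e hz hn, ?_⟩
  exact isQuasisimple_of_mulEquiv
    ((MonoidHom.ofInjective hi).trans (Subgroup.subgroupOfEquivOfLe hle).symm) hH

end Lift

section Block

variable {F : Type*} [Field F] [Fintype F] {q l n m : ℕ}

/-- the coordinate projection is diagonal -/
theorem proj_eq (F : Type*) [Field F] {e : Fin l → Fin n} (he : Function.Injective e) [DecidablePred (· ∈ Set.range e)] :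
    inc F e * (inc F e)ᵀ = Matrix.diagonal (fun x : Fin n => if x ∈ Set.range e then (1 : F) else 0) := by
  ext i j
  rw [Matrix.mul_apply, Matrix.diagonal_apply]
  by_cases hi : i ∈ Set.range e
  · obtain ⟨k, rfl⟩ := hi
    rw [Finset.sum_eq_single k]
    · rw [Matrix.transpose_apply, inc_apply, inc_apply, if_pos rfl, one_mul, if_pos (Set.mem_range_self k)]
      by_cases h : j = e k
      · rw [if_pos h, if_pos h.symm]
      · rw [if_neg h, if_neg (Ne.symm h)]
    · intro x _ hx
      rw [inc_apply, if_neg (fun h => hx (he h).symm), zero_mul]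
    · intro h
      exact absurd (Finset.mem_univ _) h
  · rw [Finset.sum_eq_zero]
    · rw [if_neg hi, ite_self]
    · intro x _
      rw [inc_apply, if_neg (fun h => hi ⟨x, h.symm⟩), zero_mul]

/-- a matrix commuting with a diagonal matrix commutes with the projection on an eigenspace -/
theorem comm_proj_diag {e : Fin l → Fin n} (he : Function.Injective e) {a b : F} (hab : a ≠ b)
    {d : Fin n → F} (hd1 : ∀ i, d (e i) = a) (hd2 : ∀ x, x ∉ Set.range e → d x = b)
    {G : Matrix (Fin n) (Fin n) F} (h : G * Matrix.diagonal d = Matrix.diagonal d * G) :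
    G * (inc F e * (inc F e)ᵀ) = (inc F e * (inc F e)ᵀ) * G := by
  classical
  rw [proj_eq F he]
  ext i j
  have h1 := congrFun (congrFun h i) j
  rw [Matrix.mul_diagonal, Matrix.diagonal_mul] at h1
  rw [Matrix.mul_diagonal, Matrix.diagonal_mul]
  have key : ∀ x, d x = if x ∈ Set.range e then a else b := by
    intro x
    by_cases hx : x ∈ Set.range e
    · obtain ⟨k, rfl⟩ := hx
      rw [hd1, if_pos (Set.mem_range_self k)]
    · rw [hd2 x hx, if_neg hx]
  rw [key i, key j] at h1
  by_cases hi : i ∈ Set.range e <;> by_cases hj : j ∈ Set.range e <;>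
    simp only [hi, hj, if_true, if_false, mul_one, one_mul, mul_zero, zero_mul] at h1 ⊢
  · have : (a - b) * G i j = 0 := by linear_combination -h1
    rcases mul_eq_zero.1 this with h2 | h2
    · exact absurd (sub_eq_zero.1 h2) hab
    · exact h2.symm
  · have : (a - b) * G i j = 0 := by linear_combination h1
    rcases mul_eq_zero.1 this with h2 | h2
    · exact absurd (sub_eq_zero.1 h2) hab
    · exact h2

/-- An element commuting with the coordinate projection normalises the block. -/
theorem ext_conj_proj (hF : Fintype.card F = q ^ 2) {e : Fin l → Fin n} (he : Function.Injective e) {g : SU n F q}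
    (hgP : mat g * (inc F e * (inc F e)ᵀ) = inc F e * (inc F e)ᵀ * mat g) (a : SU l F q) :
    ∃ b, _root_.Cfsg.Agent.Phan.ext hF e he b = g * _root_.Cfsg.Agent.Phan.ext hF e he a * g⁻¹ := by
  set P : Matrix (Fin n) (Fin n) F := inc F e * (inc F e)ᵀ with hP
  have hPP : P * P = P := by
    rw [hP]
    calc inc F e * (inc F e)ᵀ * (inc F e * (inc F e)ᵀ) = inc F e * ((inc F e)ᵀ * inc F e) * (inc F e)ᵀ := by
          simp only [Matrix.mul_assoc]
      _ = _ := by rw [incT_mul_inc he, Matrix.mul_one]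
  have hgi := mat_mul_inv g
  have hig := mat_inv_mul g
  have hPG' : mat g⁻¹ * P = P * mat g⁻¹ := by
    calc mat g⁻¹ * P = mat g⁻¹ * P * (mat g * mat g⁻¹) := by rw [hgi, Matrix.mul_one]
      _ = mat g⁻¹ * (P * mat g) * mat g⁻¹ := by simp only [Matrix.mul_assoc]
      _ = mat g⁻¹ * (mat g * P) * mat g⁻¹ := by rw [hgP]
      _ = (mat g⁻¹ * mat g) * P * mat g⁻¹ := by simp only [Matrix.mul_assoc]
      _ = P * mat g⁻¹ := by rw [hig, Matrix.one_mul]
  set E : Matrix (Fin n) (Fin n) F := extM e (mat a) with hE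
  have hE1 : P * (E - 1) * P = E - 1 := by
    have h3 : E - 1 = inc F e * (mat a - 1) * (inc F e)ᵀ := by rw [hE, extM, add_sub_cancel_left]
    rw [h3, hP]
    calc inc F e * (inc F e)ᵀ * (inc F e * (mat a - 1) * (inc F e)ᵀ) * (inc F e * (inc F e)ᵀ)
        = inc F e * ((inc F e)ᵀ * inc F e) * (mat a - 1) * ((inc F e)ᵀ * inc F e) * (inc F e)ᵀ := by
          simp only [Matrix.mul_assoc]
      _ = _ := by rw [incT_mul_inc he, Matrix.mul_one, Matrix.mul_one]
  set B := g * _root_.Cfsg.Agent.Phan.ext hF e he a * g⁻¹ with hB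
  have hBm : mat B = mat g * E * mat g⁻¹ := by rw [hB, mat_mul, mat_mul, mat_ext]
  have hB1 : P * (mat B - 1) * P = mat B - 1 := by
    have h3 : mat B - 1 = mat g * (E - 1) * mat g⁻¹ := by
      rw [hBm, Matrix.mul_sub, Matrix.sub_mul, Matrix.mul_one, hgi]
    rw [h3]
    calc P * (mat g * (E - 1) * mat g⁻¹) * P = (P * mat g) * (E - 1) * (mat g⁻¹ * P) := by
          simp only [Matrix.mul_assoc]
      _ = (mat g * P) * (E - 1) * (P * mat g⁻¹) := by rw [hgP, hPG']
      _ = mat g * (P * (E - 1) * P) * mat g⁻¹ := by simp only [Matrix.mul_assoc]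
      _ = _ := by rw [hE1]
  -- the block
  set b : Matrix (Fin l) (Fin l) F := (inc F e)ᵀ * mat B * inc F e with hb
  have hbB : extM e b = mat B := by
    have h3 : b - 1 = (inc F e)ᵀ * (mat B - 1) * inc F e := by
      rw [Matrix.mul_sub, Matrix.sub_mul, Matrix.mul_one, incT_mul_inc he]
    have h4 : inc F e * ((inc F e)ᵀ * (mat B - 1) * inc F e) * (inc F e)ᵀ = P * (mat B - 1) * P := by
      rw [hP]; simp only [Matrix.mul_assoc]
    rw [extM, h3, h4, hB1]
    abel
  have hbd : b.det = 1 := by rw [← extM_det he, hbB, mat_det]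
  have hbi : ∀ u v : Fin l → F, hermForm l F q (b *ᵥ u) (b *ᵥ v) = hermForm l F q u v := by
    intro u v
    rw [← herm_inc he, ← extM_inc he, ← extM_inc he, hbB, mat_isom, herm_inc he]
  refine ⟨_root_.Cfsg.Agent.Phan.mk b hbd hbi, mat_inj ?_⟩
  rw [mat_ext, mat_mk, hbB]

/-- The diagonal element commutes with the block. -/
theorem ext_comm_diag (hF : Fintype.card F = q ^ 2) {e : Fin l → Fin n} (he : Function.Injective e) {a b : F}
    {d : Fin n → F} (hd1 : ∀ i, d (e i) = a) (hd2 : ∀ x, x ∉ Set.range e → d x = b)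
    {y : SU n F q} (hy : mat y = Matrix.diagonal d) (s : SU l F q) :
    _root_.Cfsg.Agent.Phan.ext hF e he s * y = y * _root_.Cfsg.Agent.Phan.ext hF e he s := by
  classical
  apply mat_inj
  rw [mat_mul, mat_mul, mat_ext, hy]
  have key : (Matrix.diagonal d : Matrix (Fin n) (Fin n) F) = b • 1 + (a - b) • (inc F e * (inc F e)ᵀ) := by
    rw [proj_eq F he]
    ext i j
    rw [Matrix.add_apply, Matrix.smul_apply, Matrix.smul_apply, Matrix.one_apply, Matrix.diagonal_apply,
      Matrix.diagonal_apply]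
    by_cases hij : i = j
    · subst hij
      simp only [if_true]
      by_cases hi : i ∈ Set.range e
      · obtain ⟨k, rfl⟩ := hi
        rw [hd1, if_pos (Set.mem_range_self k)]
        simp
      · rw [hd2 i hi, if_neg hi]
        simp
    · simp [hij]
  have h1 : extM e (mat s) * (inc F e * (inc F e)ᵀ) = (inc F e * (inc F e)ᵀ) * extM e (mat s) := by
    rw [extM, Matrix.add_mul, Matrix.mul_add, Matrix.one_mul, Matrix.mul_one]
    congr 1
    calc inc F e * (mat s - 1) * (inc F e)ᵀ * (inc F e * (inc F e)ᵀ)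
        = inc F e * (mat s - 1) * ((inc F e)ᵀ * inc F e) * (inc F e)ᵀ := by simp only [Matrix.mul_assoc]
      _ = inc F e * ((inc F e)ᵀ * inc F e) * (mat s - 1) * (inc F e)ᵀ := by
          rw [incT_mul_inc he, Matrix.mul_one, Matrix.mul_one]
      _ = _ := by simp only [Matrix.mul_assoc]
  rw [key, Matrix.mul_add, Matrix.add_mul, Matrix.mul_smul, Matrix.smul_mul, Matrix.mul_one, Matrix.one_mul,
    Matrix.mul_smul, Matrix.smul_mul, h1]

/-- An element commuting with the diagonal element normalises the block. -/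
theorem ext_conj_diag (hF : Fintype.card F = q ^ 2) {e : Fin l → Fin n} (he : Function.Injective e) {a b : F}
    (hab : a ≠ b) {d : Fin n → F} (hd1 : ∀ i, d (e i) = a) (hd2 : ∀ x, x ∉ Set.range e → d x = b)
    {y : SU n F q} (hy : mat y = Matrix.diagonal d) {g : SU n F q} (hg : g * y = y * g) (s : SU l F q) :
    ∃ t, _root_.Cfsg.Agent.Phan.ext hF e he t = g * _root_.Cfsg.Agent.Phan.ext hF e he s * g⁻¹ := by
  refine ext_conj_proj hF he (comm_proj_diag he hab hd1 hd2 ?_) s
  rw [← hy, ← mat_mul, ← mat_mul, hg]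

/-- central elements of `SU_n`, `n ≥ 3`, in a proper block are trivial -/
theorem ext_center (hF : Fintype.card F = q ^ 2) {e : Fin l → Fin n} (he : Function.Injective e) (hn : 3 ≤ n)
    {x₀ : Fin n} (hx : ∀ i, x₀ ≠ e i) {s : SU l F q} (h : _root_.Cfsg.Agent.Phan.ext hF e he s ∈ center (SU n F q)) : s = 1 := by
  obtain ⟨r, hr, hr', h⟩ := (Cfsg.Agent.LieClassical.SUBasic.mem_center_SU_iff hF hn _).1 h
  have h1 : mat (_root_.Cfsg.Agent.Phan.ext hF e he s) = Matrix.diagonal fun _ => r := by
    rw [h]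
    exact Cfsg.Agent.LieClassical.SUBasic.coe_suScalar ..
  have h3 := extM_mulVec_of_notMem hx (mat s) (fun _ => 1)
  rw [← mat_ext hF he, h1, mulVec_diagonal, mul_one] at h3
  apply ext_injective hF he
  apply mat_inj
  rw [map_one, mat_one, h1, h3, diagonal_one]

/-- **The block as a component.** -/
theorem block_comp {G : Type u} [Group G] (hF : Fintype.card F = q ^ 2) (φ : SU n F q →* G)
    (hs : Function.Surjective φ) (hk : φ.ker = center (SU n F q)) (hn : 3 ≤ n)
    {e : Fin l → Fin n} (he : Function.Injective e) (hq : IsQuasisimple (SU l F q)) {a b : F} (hab : a ≠ b)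
    {d : Fin n → F} (hd1 : ∀ i, d (e i) = a) (hd2 : ∀ x, x ∉ Set.range e → d x = b)
    {x₀ : Fin n} (hx : ∀ i, x₀ ≠ e i) {y : SU n F q} (hy : mat y = Matrix.diagonal d) :
    Function.Injective (φ.comp (_root_.Cfsg.Agent.Phan.ext hF e he)) ∧
      IsComponentOf (φ.comp (_root_.Cfsg.Agent.Phan.ext hF e he)).range (centralizer ({φ y} : Set G)) := by
  have hi : Function.Injective (φ.comp (_root_.Cfsg.Agent.Phan.ext hF e he)) := by
    rw [injective_iff_map_eq_one]
    intro s hs1
    have h1 : _root_.Cfsg.Agent.Phan.ext hF e he s ∈ φ.ker := hs1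
    rw [hk] at h1
    exact ext_center hF he hn hx h1
  exact ⟨hi, comp_lift φ hs hk.le (_root_.Cfsg.Agent.Phan.ext hF e he) hq (ext_comm_diag hF he hd1 hd2 hy)
    (fun g hg s => ext_conj_diag hF he hab hd1 hd2 hy hg s) hi⟩

end Block

end Cfsg.Agent.GenPsu
end

-- part: GenPsu/Psu
section
set_option linter.all false
open scoped Cfsg.Agent.FastGrp

/-!
# Large components in `PSU_n(q)`, `q` odd (helper31)

* `gen_five` : `n ≥ 5`: the block `SU_4(q)` is a component of the centralizer of the image of `-1 ⊕ 1`;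
* `gen_four` : `n = 4`, `q % 8 = 7`: the block `SU_3(q)` is a component of the centralizer of the image of
  `diag(λ, λ, λ, -λ)`, `λ ^ 4 = -1`.
-/

set_option autoImplicit false

namespace Cfsg.Agent.GenPsu

open Matrix Subgroup Cfsg Cfsg.Agent.Phan
open Cfsg.Agent.SignalizersComponents.Components
open Cfsg.Agent.LieClassical.SUBasic (suDiag mem_center_SU_iff coe_suScalar suScalar)

universe u

section

variable {F : Type} [Field F] [Fintype F] {q n k : ℕ}

theorem quasi (hF : Fintype.card F = q ^ 2) (hn : 3 ≤ n) (h : ¬ (n = 3 ∧ q = 2)) : IsQuasisimple (SU n F q) :=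
  ⟨⟨Cfsg.Agent.LieClassical.HermPerfect.commutator_SU_eq_top hF hn h⟩, Cfsg.Agent.S0283.result hF n hn h⟩

/-- the projection on `G ≅ PSU_n(q)` -/
noncomputable def pr {G : Type u} [Group G] (e : G ≃* PSU n F q) : SU n F q →* G :=
  e.symm.toMonoidHom.comp (QuotientGroup.mk' _)

theorem pr_surj {G : Type u} [Group G] (e : G ≃* PSU n F q) : Function.Surjective (pr e) :=
  e.symm.surjective.comp (QuotientGroup.mk'_surjective _)

theorem pr_ker {G : Type u} [Group G] (e : G ≃* PSU n F q) : (pr e).ker = center (SU n F q) := by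
  ext x
  rw [MonoidHom.mem_ker]
  change e.symm (QuotientGroup.mk' _ x) = 1 ↔ _
  rw [map_eq_one_iff _ e.symm.injective]
  exact QuotientGroup.eq_one_iff x

/-- two diagonal elements with the same image differ by a scalar -/
theorem diag_eq_smul (hF : Fintype.card F = q ^ 2) (hn : 3 ≤ n) {G : Type u} [Group G] (e : G ≃* PSU n F q)
    {x y : SU n F q} {d d' : Fin n → F} (hx : mat x = diagonal d) (hy : mat y = diagonal d')
    (h : pr e x = pr e y) : ∃ r : F, ∀ i, d' i = d i * r := by
  have h1 : x⁻¹ * y ∈ (pr e).ker := by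
    rw [MonoidHom.mem_ker, map_mul, map_inv, h, inv_mul_cancel]
  rw [pr_ker] at h1
  obtain ⟨r, hr, hr', h2⟩ := (mem_center_SU_iff hF hn _).1 h1
  refine ⟨r, fun i => ?_⟩
  have h3 : mat y = mat x * mat (suScalar q r hr hr' : SU n F q) := by
    rw [← h2, ← mat_mul, mul_inv_cancel_left]
  have h4 : mat (suScalar q r hr hr' : SU n F q) = diagonal fun _ => r := coe_suScalar ..
  rw [hx, hy, h4, diagonal_mul_diagonal] at h3
  have h5 := congrFun (congrFun h3 i) i
  rwa [diagonal_apply_eq, diagonal_apply_eq] at h5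

theorem diag_mul_comm {x y : SU n F q} {d d' : Fin n → F} (hx : mat x = diagonal d) (hy : mat y = diagonal d') :
    x * y = y * x := by
  apply mat_inj
  rw [mat_mul, mat_mul, hx, hy, diagonal_mul_diagonal, diagonal_mul_diagonal]
  congr 1
  funext i
  rw [mul_comm]

theorem diag_sq_of {x : SU n F q} {d : Fin n → F} (hx : mat x = diagonal d) (h : ∀ i, d i * d i = 1) :
    x * x = 1 := by
  apply mat_inj
  rw [mat_mul, hx, diagonal_mul_diagonal, mat_one, ← diagonal_one]
  congr 1
  funext i
  exact h i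

/-- a diagonal element with scalar square maps to an element of square one -/
theorem pr_sq (hF : Fintype.card F = q ^ 2) (hn : 3 ≤ n) {G : Type u} [Group G] (e : G ≃* PSU n F q)
    {x : SU n F q} {d : Fin n → F} {c : F} (hc : c ^ n = 1) (hc' : c ^ (q + 1) = 1)
    (hx : mat x = diagonal d) (h : ∀ i, d i * d i = c) : pr e x * pr e x = 1 := by
  rw [← map_mul, ← MonoidHom.mem_ker, pr_ker, mem_center_SU_iff hF hn]
  refine ⟨c, hc, hc', mat_inj ?_⟩
  have h4 : mat (suScalar q c hc hc' : SU n F q) = diagonal fun _ => c := coe_suScalar ..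
  rw [mat_mul, hx, diagonal_mul_diagonal, h4]
  congr 1
  funext i
  exact h i

theorem two_ne (hF : Fintype.card F = q ^ 2) (hq : Odd q) : (2 : F) ≠ 0 := by
  intro h2
  have h3 := FiniteField.cast_card_eq_zero F
  rw [hF] at h3
  obtain ⟨t, ht⟩ := hq
  rw [ht] at h3
  push_cast at h3
  rw [h2] at h3
  simp only [_root_.MulZeroClass.zero_mul, _root_.zero_add, _root_.one_pow, _root_.one_ne_zero] at h3

theorem neg_one_ne (hF : Fintype.card F = q ^ 2) (hq : Odd q) : (-1 : F) ≠ 1 := by
  intro h
  apply two_ne hF hq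
  linear_combination -h

/-- three images of diagonal elements -/
theorem rank_of (hF : Fintype.card F = q ^ 2) (hn : 3 ≤ n) {G : Type u} [Group G] [Finite G] (e : G ≃* PSU n F q)
    {x y z : SU n F q} {a b c : Fin n → F} (hx : mat x = diagonal a) (hy : mat y = diagonal b)
    (hz : mat z = diagonal c) (hx2 : pr e x * pr e x = 1) (hy2 : pr e y * pr e y = 1) (hz2 : pr e z * pr e z = 1)
    (h1 : ¬ ∃ r : F, ∀ i, a i = 1 * r) (h2 : ¬ ∃ r : F, ∀ i, b i = 1 * r) (h3 : ¬ ∃ r : F, ∀ i, c i = 1 * r)
    (h12 : ¬ ∃ r : F, ∀ i, b i = a i * r) (h13 : ¬ ∃ r : F, ∀ i, c i = a i * r) (h23 : ¬ ∃ r : F, ∀ i, c i = b i * r)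
    (h123 : ¬ ∃ r : F, ∀ i, c i = (a i * b i) * r) :
    PRankAtLeast 2 3 ↥(centralizer ({pr e x} : Set G)) ∧ orderOf (pr e x) = 2 := by
  have hone : mat (1 : SU n F q) = diagonal fun _ => 1 := by rw [mat_one, ← diagonal_one]
  have hxy := congrArg (pr e) (diag_mul_comm hx hy)
  have hxz := congrArg (pr e) (diag_mul_comm hx hz)
  have hyz := congrArg (pr e) (diag_mul_comm hy hz)
  rw [map_mul, map_mul] at hxy hxz hyz
  have hmul : mat (x * y) = diagonal fun i => a i * b i := by rw [mat_mul, hx, hy, diagonal_mul_diagonal]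
  have e1 : pr e x ≠ 1 := fun h => h1 (diag_eq_smul hF hn e hone hx (by rw [h, map_one]))
  have e2 : pr e y ≠ 1 := fun h => h2 (diag_eq_smul hF hn e hone hy (by rw [h, map_one]))
  have e3 : pr e z ≠ 1 := fun h => h3 (diag_eq_smul hF hn e hone hz (by rw [h, map_one]))
  have e12 : pr e x ≠ pr e y := fun h => h12 (diag_eq_smul hF hn e hx hy h)
  have e13 : pr e x ≠ pr e z := fun h => h13 (diag_eq_smul hF hn e hx hz h)
  have e23 : pr e y ≠ pr e z := fun h => h23 (diag_eq_smul hF hn e hy hz h)
  have e123 : pr e x * pr e y ≠ pr e z := fun h =>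
    h123 (diag_eq_smul hF hn e hmul hz (by rw [map_mul]; exact h))
  constructor
  · refine three_invol (u := (⟨pr e x, mem_centralizer_singleton_iff.2 rfl⟩ : ↥(centralizer ({pr e x} : Set G))))
      (v := ⟨pr e y, mem_centralizer_singleton_iff.2 hxy.symm⟩)
      (w := ⟨pr e z, mem_centralizer_singleton_iff.2 hxz.symm⟩) ?_ ?_ ?_ ?_ ?_ ?_ ?_ ?_ ?_ ?_ ?_ ?_ ?_
    · exact Subtype.ext hx2
    · exact Subtype.ext hy2
    · exact Subtype.ext hz2
    · exact Subtype.ext hxy
    · exact Subtype.ext hxz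
    · exact Subtype.ext hyz
    · exact fun h => e1 (congrArg Subtype.val h)
    · exact fun h => e2 (congrArg Subtype.val h)
    · exact fun h => e3 (congrArg Subtype.val h)
    · exact fun h => e12 (congrArg Subtype.val h)
    · exact fun h => e13 (congrArg Subtype.val h)
    · exact fun h => e23 (congrArg Subtype.val h)
    · exact fun h => e123 (congrArg Subtype.val h)
  · exact orderOf_eq_prime (by rw [pow_two]; exact hx2) e1

/-! ### `n ≥ 5` -/

/-- sign vectors on the first four coordinates -/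
def sg (k : ℕ) (s : Fin 4 → F) : Fin (4 + k) → F := Fin.append s fun _ => 1

theorem sg_left (s : Fin 4 → F) (i : Fin 4) : sg k s (Fin.castAdd k i) = s i := Fin.append_left ..

theorem sg_right (s : Fin 4 → F) (i : Fin k) : sg k s (Fin.natAdd 4 i) = 1 := Fin.append_right ..

theorem sg_prod (s : Fin 4 → F) : ∏ i, sg k s i = ∏ i, s i := by
  rw [Fin.prod_univ_add]
  simp only [sg_left, sg_right, Finset.prod_const_one, mul_one]

theorem sg_all {P : F → Prop} (s : Fin 4 → F) (h1 : P 1) (h : ∀ i, P (s i)) (i : Fin (4 + k)) : P (sg k s i) := by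
  refine Fin.addCases (fun i => ?_) (fun i => ?_) i
  · rw [sg_left]; exact h i
  · rw [sg_right]; exact h1

theorem pow_one_of (hq : Odd q) {x : F} (h : x * x = 1) : x ^ (q + 1) = 1 := by
  obtain ⟨t, ht⟩ := hq
  rw [show q + 1 = 2 * (t + 1) by omega, pow_mul, pow_two, h, one_pow]

/-- the diagonal elements -/
noncomputable def dg (k : ℕ) (hq : Odd q) (s : Fin 4 → F) (h1 : ∏ i, s i = 1) (h2 : ∀ i, s i * s i = 1) :
    SU (4 + k) F q :=
  suDiag q (sg k s) (by rw [sg_prod, h1]) (fun i => sg_all (P := fun x => x ^ (q + 1) = 1) s (one_pow _)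
    (fun i => pow_one_of hq (h2 i)) i)

theorem two_dvd_card (hF : Fintype.card F = q ^ 2) (hq : Odd q) {m : ℕ} (d : Fin m → F) (h1 : ∏ i, d i = 1)
    (h2 : ∀ i, d i * d i = 1) {i : Fin m} (hi : d i = -1) : 2 ∣ Nat.card (SU m F q) := by
  let x : SU m F q := suDiag q d h1 (fun i => pow_one_of hq (h2 i))
  have hx : mat x = diagonal d := rfl
  have h3 : orderOf x = 2 := by
    refine orderOf_eq_prime ?_ ?_
    · rw [pow_two]
      exact diag_sq_of hx h2
    · intro h
      have h4 : mat x = 1 := by rw [h, mat_one]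
      rw [hx] at h4
      have h5 := congrFun (congrFun h4 i) i
      rw [diagonal_apply_eq, one_apply_eq, hi] at h5
      exact neg_one_ne hF hq h5
  rw [← h3]
  exact _root_.orderOf_dvd_natCard x

/-- the centre of `SU₄(q)` is a 2-group -/
theorem center_two (hF : Fintype.card F = q ^ 2) : IsPGroup 2 ↥(center (SU 4 F q)) := by
  rintro ⟨A, hA⟩
  refine ⟨2, Subtype.ext ?_⟩
  rw [Subgroup.coe_pow, Subgroup.coe_one]
  change A ^ (2 ^ 2) = 1
  obtain ⟨r, hr, hr', rfl⟩ := (mem_center_SU_iff hF (by omega) A).1 hA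
  apply mat_inj
  have h1 : mat (suScalar q r hr hr' : SU 4 F q) = diagonal fun _ => r := coe_suScalar ..
  rw [mat_one, show (2 : ℕ) ^ 2 = 1 + 1 + 1 + 1 by norm_num, pow_succ, pow_succ, pow_succ, pow_one, mat_mul, mat_mul,
    mat_mul, h1, diagonal_mul_diagonal, diagonal_mul_diagonal, diagonal_mul_diagonal]
  have h2 : r * r * r * r = 1 := by
    rw [← hr]; ring
  simp only [h2, diagonal_one]

theorem castAdd_ne (i : Fin 4) (j : Fin k) : (Fin.natAdd 4 j : Fin (4 + k)) ≠ Fin.castAdd k i := by
  intro h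
  have := congrArg Fin.val h
  simp only [Fin.val_natAdd, Fin.val_castAdd] at this
  omega

/-- **`PSU_n(q)`, `n ≥ 5`, `q` odd** -/
theorem gen_five (hF : Fintype.card F = q ^ 2) (hq : Odd q) (hn : 5 ≤ n) (h4 : InGp 2 (SU 4 F q)) {G : Type u} [Group G]
    [Finite G] (e : G ≃* PSU n F q) : LpoExists 2 G (InGp 2) := by
  obtain ⟨k, rfl⟩ : ∃ k, n = 4 + k := ⟨n - 4, by omega⟩
  have hk : 1 ≤ k := by omega
  have h2 := two_ne hF hq
  have hne := neg_one_ne hF hq
  let a : Fin 4 → F := fun _ => -1
  let b : Fin 4 → F := ![-1, -1, 1, 1]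
  let c : Fin 4 → F := ![1, -1, -1, 1]
  let x := dg k hq a (by rw [Fin.prod_univ_four]; simp [a]) (fun i => by simp [a])
  let y := dg k hq b (by simp [b, Fin.prod_univ_four]) (fun i => by fin_cases i <;> simp [b])
  let z := dg k hq c (by simp [c, Fin.prod_univ_four]) (fun i => by (revert i; simp only [c, _root_.Fin.forall_fin_succ, Fin.isValue, _root_.Matrix.cons_val_zero, _root_.mul_one, _root_.Matrix.cons_val_succ, _root_.mul_neg, _root_.neg_neg, _root_.Matrix.cons_val_fin_one, _root_.implies_true, _root_.and_self]))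
  have hx : mat x = diagonal (sg k a) := rfl
  have hy : mat y = diagonal (sg k b) := rfl
  have hz : mat z = diagonal (sg k c) := rfl
  have sq : ∀ {w : SU (4 + k) F q} {s : Fin 4 → F}, mat w = diagonal (sg k s) → (∀ i, s i * s i = 1) →
      pr e w * pr e w = 1 := by
    intro w s hw hs
    refine pr_sq hF (by omega) e (c := 1) (one_pow _) (one_pow _) hw ?_
    exact fun i => sg_all (P := fun x => x * x = 1) s (one_mul 1) hs i
  have hr := rank_of hF (by omega) e hx hy hz (sq hx (fun i => by simp [a])) (sq hy (fun i => by (revert i; simp only [b, _root_.Fin.forall_fin_succ, Fin.isValue, _root_.Matrix.cons_val_zero, _root_.mul_neg, _root_.mul_one, _root_.neg_neg, _root_.Matrix.cons_val_succ, _root_.Matrix.cons_val_fin_one, _root_.implies_true, _root_.and_self])))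
    (sq hz (fun i => by (revert i; simp only [c, _root_.Fin.forall_fin_succ, Fin.isValue, _root_.Matrix.cons_val_zero, _root_.mul_one, _root_.Matrix.cons_val_succ, _root_.mul_neg, _root_.neg_neg, _root_.Matrix.cons_val_fin_one, _root_.implies_true, _root_.and_self])))
  have red : ∀ {s : Fin (4 + k) → F} {t : Fin (4 + k) → F} {i : Fin (4 + k)} {j : Fin (4 + k)}, s j = t j → t j ≠ 0 →
      s i ≠ t i → ¬ ∃ r : F, ∀ i, s i = t i * r := by
    rintro s t i j hj h0 hi ⟨r, hr⟩
    have h5 := hr j
    rw [hj] at h5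
    have hr1 : r = 1 := by
      apply mul_left_cancel₀ h0
      rw [← h5, mul_one]
    exact hi (by rw [hr i, hr1, mul_one])
  let l : Fin (4 + k) := Fin.natAdd 4 ⟨0, hk⟩
  have hl : ∀ s : Fin 4 → F, sg k s l = 1 := fun s => sg_right s _
  have hL : ∀ (s : Fin 4 → F) (i : Fin 4), sg k s (Fin.castAdd k i) = s i := fun s i => sg_left s i
  obtain ⟨hr, ho⟩ := hr
    (red (i := Fin.castAdd k 0) (j := l) (hl a) one_ne_zero (by rw [hL]; exact hne))
    (red (i := Fin.castAdd k 0) (j := l) (hl b) one_ne_zero (by rw [hL]; exact hne))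
    (red (i := Fin.castAdd k 1) (j := l) (hl c) one_ne_zero (by rw [hL]; exact hne))
    (red (i := Fin.castAdd k 2) (j := l) (by rw [hl, hl]) (by rw [hl]; exact one_ne_zero)
      (by rw [hL, hL]; exact hne.symm))
    (red (i := Fin.castAdd k 0) (j := l) (by rw [hl, hl]) (by rw [hl]; exact one_ne_zero)
      (by rw [hL, hL]; exact hne.symm))
    (red (i := Fin.castAdd k 0) (j := l) (by rw [hl, hl]) (by rw [hl]; exact one_ne_zero)
      (by rw [hL, hL]; exact hne.symm))
    (red (i := Fin.castAdd k 1) (j := l) (by rw [hl, hl, hl, one_mul]) (by rw [hl, hl, one_mul]; exact one_ne_zero)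
      (by
        rw [hL, hL, hL]
        change (-1 : F) ≠ -1 * -1
        rw [neg_mul_neg, one_mul]
        exact hne))
  have he : Function.Injective (Fin.castAdd k : Fin 4 → Fin (4 + k)) := Fin.castAdd_injective 4 k
  obtain ⟨hi, hK⟩ := block_comp hF (pr e) (pr_surj e) (pr_ker e) (by omega : 3 ≤ 4 + k) he (quasi hF (by omega) (by omega))
    (a := -1) (b := 1) hne (d := sg k a) (fun i => hL a i)
    (fun w hw => by
      revert hw
      refine Fin.addCases (fun i => ?_) (fun i => ?_) w
      · exact fun hw => absurd ⟨i, rfl⟩ hw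
      · exact fun _ => sg_right a i)
    (x₀ := l) (fun i => castAdd_ne i _) hx
  let E := MonoidHom.ofInjective hi
  refine OddTab.lpoExists_of_comp_self ho hr hK ?_ ?_ (fun A B _ _ e' h => (OddTab.inGp_iff e' 2).1 h)
    ((OddTab.inGp_iff E 2).1 h4)
  · intro hc
    rw [← Nat.card_congr E.toEquiv] at hc
    have h5 := two_dvd_card hF hq (m := 4) a (by rw [Fin.prod_univ_four]; simp [a]) (fun i => by simp [a]) (i := 0) rfl
    have h6 := Nat.dvd_gcd h5 (dvd_refl 2)
    rw [hc] at h6
    exact absurd h6 (by decide)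
  · exact (CpQuot.Congr.isPGroup_iff (CpQuot.Congr.ce E) 2).1 (center_two hF)

/-! ### `n = 4`, `q ≡ 7 (mod 8)` -/

theorem exists_lam (hF : Fintype.card F = q ^ 2) (h8 : q % 8 = 7) : ∃ r : F, r ^ 4 = -1 ∧ r ^ (q + 1) = 1 := by
  classical
  obtain ⟨g, hg⟩ := IsCyclic.exists_ofOrder_eq_natCard (α := Fˣ)
  have hcard : Nat.card Fˣ = q ^ 2 - 1 := by
    rw [Nat.card_eq_fintype_card, Fintype.card_units, hF]
  obtain ⟨t, ht⟩ : ∃ t, q = 8 * t + 7 := ⟨q / 8, by omega⟩
  have hfac : q ^ 2 - 1 = 8 * ((t + 1) * (q - 1)) := by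
    have h1 : q ^ 2 - 1 = (q + 1) * (q - 1) := by
      have := Nat.sq_sub_sq q 1
      simpa only [_root_.one_pow] using this
    rw [h1, show q + 1 = 8 * (t + 1) by omega, mul_assoc]
  set m := (t + 1) * (q - 1) with hm
  have hm0 : m ≠ 0 := by
    rw [hm]
    exact mul_ne_zero (by omega) (by omega)
  have hord : orderOf (g ^ m) = 8 := by
    rw [orderOf_pow_of_dvd hm0 (by rw [hg, hcard, hfac]; exact dvd_mul_left _ _), hg, hcard, hfac]
    exact Nat.mul_div_cancel _ (Nat.pos_of_ne_zero hm0)
  refine ⟨((g ^ m : Fˣ) : F), ?_, ?_⟩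
  · have h1 : (g ^ m) ^ 8 = 1 := by rw [← hord]; exact pow_orderOf_eq_one _
    have h2 : (g ^ m) ^ 4 ≠ 1 := by
      intro h
      have := orderOf_dvd_of_pow_eq_one h
      rw [hord] at this
      exact absurd this (by decide)
    have h3 : ((((g ^ m : Fˣ)) : F) ^ 4) * ((((g ^ m : Fˣ)) : F) ^ 4) = 1 := by
      rw [← pow_add, ← Units.val_pow_eq_pow_val]
      norm_num only [_root_.Units.val_pow_eq_pow_val]
      rw [← Units.val_pow_eq_pow_val, ← Units.val_pow_eq_pow_val, h1, Units.val_one]
    rcases mul_self_eq_one_iff.1 h3 with h | h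
    · exfalso
      apply h2
      apply Units.ext
      rw [Units.val_pow_eq_pow_val, h, Units.val_one]
    · exact h
  · have h1 : (g ^ m) ^ 8 = 1 := by rw [← hord]; exact pow_orderOf_eq_one _
    rw [show q + 1 = 8 * (t + 1) by omega, ← Units.val_pow_eq_pow_val, pow_mul, h1, one_pow, Units.val_one]

/-- `O(SU₃(q)) = Z(SU₃(q))` -/
theorem core_three (hF : Fintype.card F = q ^ 2) (hq : Odd q) : pPrimeCore 2 (SU 3 F q) = center (SU 3 F q) := by
  have hqs : IsQuasisimple (SU 3 F q) := quasi hF le_rfl (by rintro ⟨-, rfl⟩; exact absurd hq (by decide))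
  have h2 : 2 ∣ Nat.card (SU 3 F q) := by
    refine two_dvd_card hF hq (m := 3) ![-1, -1, 1] (by simp [Fin.prod_univ_three]) (fun i => by fin_cases i <;> simp)
      (i := 0) rfl
  apply le_antisymm
  · rcases quasisimple_normal hqs _ (Lib.Cores.pPrimeCore_normal (G := SU 3 F q) 2) with h | h
    · exfalso
      have h1 := Lib.Cores.pPrimeCore_coprime (G := SU 3 F q) 2
      rw [h, Nat.card_congr Subgroup.topEquiv.toEquiv] at h1
      have h6 := Nat.dvd_gcd h2 (dvd_refl 2)
      rw [h1] at h6
      exact absurd h6 (by decide)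
    · exact h
  · refine Lib.Cores.le_pPrimeCore inferInstance ?_
    rw [Nat.coprime_comm, Nat.Prime.coprime_iff_not_dvd Nat.prime_two]
    intro hd
    obtain ⟨⟨A, hA⟩, ho⟩ := exists_prime_orderOf_dvd_card' 2 hd
    obtain ⟨r, hr, hr', rfl⟩ := (mem_center_SU_iff hF le_rfl A).1 hA
    have h3 : (⟨suScalar q r hr hr', hA⟩ : ↥(center (SU 3 F q))) ^ 3 = 1 := by
      apply Subtype.ext
      rw [Subgroup.coe_pow, Subgroup.coe_one]
      apply mat_inj
      have h1 : mat (suScalar q r hr hr' : SU 3 F q) = diagonal fun _ => r := coe_suScalar ..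
      rw [mat_one, pow_succ, pow_succ, pow_one, mat_mul, mat_mul, h1, diagonal_mul_diagonal, diagonal_mul_diagonal]
      have h2 : r * r * r = 1 := by
        rw [← hr]; ring
      simp only [h2, diagonal_one]
    have h4 := orderOf_dvd_of_pow_eq_one h3
    rw [ho] at h4
    exact absurd h4 (by decide)

/-- **`PSU_4(q)`, `q ≡ 7 (mod 8)`** -/
theorem gen_four (hF : Fintype.card F = q ^ 2) (h8 : q % 8 = 7) (h3 : InGp 2 (PSU 3 F q)) {G : Type u} [Group G]
    [Finite G] (e : G ≃* PSU 4 F q) : LpoExists 2 G (InGp 2) := by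
  have hq : Odd q := by
    rw [Nat.odd_iff]
    omega
  have h2 := two_ne hF hq
  have hne := neg_one_ne hF hq
  obtain ⟨r, hr4, hrq⟩ := exists_lam hF h8
  have hr0 : r ≠ 0 := by
    rintro rfl
    rw [zero_pow (by norm_num)] at hr4
    exact one_ne_zero (α := F) (by linear_combination hr4)
  have hqe : Even (q + 1) := by
    rw [Nat.even_iff]
    omega
  let a : Fin 4 → F := ![r, r, r, -r]
  let b : Fin 4 → F := ![-1, -1, 1, 1]
  let c : Fin 4 → F := ![1, -1, -1, 1]
  let x : SU 4 F q := suDiag q a (by simp [a, Fin.prod_univ_four]; linear_combination -hr4)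
    (fun i => by (revert i; simp only [a, hqe.neg_pow, hrq, _root_.Fin.forall_fin_succ, Fin.isValue, _root_.Matrix.cons_val_zero, _root_.Matrix.cons_val_succ, _root_.Matrix.cons_val_fin_one, _root_.implies_true, _root_.and_self]))
  let y : SU 4 F q := suDiag q b (by simp [b, Fin.prod_univ_four]) (fun i => by (revert i; simp only [b, hqe.neg_one_pow, _root_.Fin.forall_fin_succ, Fin.isValue, _root_.Matrix.cons_val_zero, _root_.Matrix.cons_val_succ, _root_.one_pow, _root_.Matrix.cons_val_fin_one, _root_.implies_true, _root_.and_self]))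
  let z : SU 4 F q := suDiag q c (by simp [c, Fin.prod_univ_four]) (fun i => by (revert i; simp only [c, hqe.neg_one_pow, _root_.Fin.forall_fin_succ, Fin.isValue, _root_.Matrix.cons_val_zero, _root_.one_pow, _root_.Matrix.cons_val_succ, _root_.Matrix.cons_val_fin_one, _root_.implies_true, _root_.and_self]))
  have hx : mat x = diagonal a := rfl
  have hy : mat y = diagonal b := rfl
  have hz : mat z = diagonal c := rfl
  have hr2 : (r * r) ^ 4 = 1 := by
    have : (r * r) ^ 4 = r ^ 4 * r ^ 4 := by ring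
    rw [this, hr4]; ring
  have hr2' : (r * r) ^ (q + 1) = 1 := by rw [mul_pow, hrq, one_mul]
  have hx2 : pr e x * pr e x = 1 :=
    pr_sq hF (by norm_num) e hr2 hr2' hx (fun i => by (revert i; simp only [a, _root_.Fin.forall_fin_succ, Fin.isValue, _root_.Matrix.cons_val_zero, _root_.Matrix.cons_val_succ, _root_.Matrix.cons_val_fin_one, _root_.mul_neg, _root_.neg_mul, _root_.neg_neg, _root_.implies_true, _root_.and_self]))
  have hy2 : pr e y * pr e y = 1 :=
    pr_sq hF (by norm_num) e (c := 1) (one_pow _) (one_pow _) hy (fun i => by (revert i; simp only [b, _root_.Fin.forall_fin_succ, Fin.isValue, _root_.Matrix.cons_val_zero, _root_.mul_neg, _root_.mul_one, _root_.neg_neg, _root_.Matrix.cons_val_succ, _root_.Matrix.cons_val_fin_one, _root_.implies_true, _root_.and_self]))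
  have hz2 : pr e z * pr e z = 1 :=
    pr_sq hF (by norm_num) e (c := 1) (one_pow _) (one_pow _) hz (fun i => by (revert i; simp only [c, _root_.Fin.forall_fin_succ, Fin.isValue, _root_.Matrix.cons_val_zero, _root_.mul_one, _root_.Matrix.cons_val_succ, _root_.mul_neg, _root_.neg_neg, _root_.Matrix.cons_val_fin_one, _root_.implies_true, _root_.and_self]))
  have red : ∀ {s t : Fin 4 → F} {i j : Fin 4}, s i * t j ≠ s j * t i → ¬ ∃ r : F, ∀ i, s i = t i * r := by
    rintro s t i j hij ⟨r, hr⟩
    apply hij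
    rw [hr i, hr j]
    ring
  have hrr : r ≠ -r := by
    intro h
    have : (2 : F) * r = 0 := by linear_combination h
    rcases mul_eq_zero.1 this with h | h
    · exact h2 h
    · exact hr0 h
  obtain ⟨hrk, ho⟩ := rank_of hF (by norm_num) e hx hy hz hx2 hy2 hz2
    (red (i := 0) (j := 3) (by change r * 1 ≠ -r * 1; rw [mul_one, mul_one]; exact hrr))
    (red (i := 0) (j := 3) (by change (-1 : F) * 1 ≠ 1 * 1; rw [mul_one, mul_one]; exact hne))
    (red (i := 0) (j := 1) (by change (1 : F) * 1 ≠ -1 * 1; rw [mul_one, mul_one]; exact hne.symm))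
    (red (i := 0) (j := 2) (by change (-1 : F) * r ≠ 1 * r; rw [neg_one_mul, one_mul]; exact hrr.symm))
    (red (i := 0) (j := 1) (by change (1 : F) * r ≠ -1 * r; rw [neg_one_mul, one_mul]; exact hrr))
    (red (i := 0) (j := 1) (by change (1 : F) * -1 ≠ -1 * -1; rw [neg_mul_neg, one_mul, one_mul]; exact hne))
    (red (i := 0) (j := 1) (by
      change (1 : F) * (r * -1) ≠ -1 * (r * -1)
      rw [one_mul, neg_one_mul, mul_neg_one, neg_neg]
      exact hrr.symm))
  have he : Function.Injective (Fin.castSucc : Fin 3 → Fin 4) := Fin.castSucc_injective 3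
  have hqs : IsQuasisimple (SU 3 F q) := quasi hF le_rfl (by rintro ⟨-, rfl⟩; exact absurd hq (by decide))
  obtain ⟨hi, hK⟩ := block_comp hF (pr e) (pr_surj e) (pr_ker e) (by norm_num : 3 ≤ 4) he hqs
    (a := r) (b := -r) hrr (d := a) (fun i => by fin_cases i <;> rfl)
    (fun w hw => by
      have hw3 : w = 3 := by
        by_contra h
        apply hw
        refine ⟨⟨w.val, by have := w.2; have : w.val ≠ 3 := fun h' => h (Fin.ext h'); omega⟩, ?_⟩
        exact Fin.ext rfl
      subst hw3
      rfl)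
    (x₀ := 3) (fun i => by
      intro h
      have := congrArg Fin.val h
      simp only [Fin.val_castSucc] at this
      have := i.2
      omega) hx
  let E := MonoidHom.ofInjective hi
  refine OddTab.lpoExists_of_comp ho hrk hK ?_ (fun A B _ _ e' h => (OddTab.inGp_iff e' 2).1 h) ?_
  · intro hc
    rw [← Nat.card_congr E.toEquiv] at hc
    have h5 := two_dvd_card hF hq (m := 3) ![-1, -1, 1] (by simp [Fin.prod_univ_three])
      (fun i => by (revert i; simp only [_root_.Fin.forall_fin_succ, Fin.isValue, _root_.Matrix.cons_val_zero, _root_.mul_neg, _root_.mul_one, _root_.neg_neg, _root_.Matrix.cons_val_succ, _root_.Matrix.cons_val_fin_one, _root_.implies_true, _root_.and_self])) (i := 0) rfl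
    have h6 := Nat.dvd_gcd h5 (dvd_refl 2)
    rw [hc] at h6
    exact absurd h6 (by decide)
  · refine (OddTab.inGp_iff ?_ 2).1 h3
    exact (QuotientGroup.quotientMulEquivOfEq (core_three hF hq)).symm.trans
      (QuotientGroup.congr _ _ E (Lib.Cores.map_equiv_pPrimeCore E 2))

end

end Cfsg.Agent.GenPsu
end

-- part: GenAlt/Alt
section
set_option linter.all false
open scoped Cfsg.Agent.FastGrp

/-!
# Large components in `A_n` (helper31)

* `comp_alt` : for `G ≅ A_n`, `n ≥ 8`, there are an involution `x` of `G` with `m_2(C_G(x)) ≥ 3` and a component of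
  `C_G(x)` isomorphic to `A_{n-4}` (as soon as `A_{n-4}` is quasisimple);
* `gen_alt` : `n ≥ 13`: a `G₂`-group in `L₂°(A_n)` if `A_m` is a `G₂`-group for `m ≥ 9`.
-/

set_option autoImplicit false

namespace Cfsg.Agent.GenAlt

open Subgroup Cfsg Equiv Equiv.Perm
open Cfsg.Agent.GenPsu (three_invol comp_lift)

universe u

section

variable {k : ℕ}

/-- `A_k` on the last `k` points -/
def blk (k : ℕ) : alternatingGroup (Fin k) →* alternatingGroup (Fin 4 ⊕ Fin k) where
  toFun g := ⟨Perm.sumCongr 1 (g : Perm (Fin k)), by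
    rw [mem_alternatingGroup, sign_sumCongr, Perm.sign_one, one_mul]
    exact mem_alternatingGroup.1 g.2⟩
  map_one' := by
    apply Subtype.ext
    exact sumCongr_one
  map_mul' g h := by
    apply Subtype.ext
    change Perm.sumCongr (1 : Perm (Fin 4)) ((g : Perm (Fin k)) * (h : Perm (Fin k))) =
      Perm.sumCongr 1 (g : Perm (Fin k)) * Perm.sumCongr 1 (h : Perm (Fin k))
    rw [sumCongr_mul, one_mul]

theorem blk_inl (g : alternatingGroup (Fin k)) (i : Fin 4) :
    ((blk k g : alternatingGroup (Fin 4 ⊕ Fin k)) : Perm (Fin 4 ⊕ Fin k)) (Sum.inl i) = Sum.inl i := rfl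

theorem blk_inr (g : alternatingGroup (Fin k)) (i : Fin k) :
    ((blk k g : alternatingGroup (Fin 4 ⊕ Fin k)) : Perm (Fin 4 ⊕ Fin k)) (Sum.inr i) =
      Sum.inr ((g : Perm (Fin k)) i) := rfl

theorem blk_inj : Function.Injective (blk k) := by
  intro g h e
  apply Subtype.ext
  ext i
  have h1 := congrArg (fun x : alternatingGroup (Fin 4 ⊕ Fin k) => (x : Perm (Fin 4 ⊕ Fin k)) (Sum.inr i)) e
  simp only [blk_inr, Sum.inr.injEq] at h1
  rw [h1]

/-- an even permutation fixing the first four points comes from `A_k` -/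
theorem mem_blk {g : alternatingGroup (Fin 4 ⊕ Fin k)}
    (h : ∀ i, (g : Perm (Fin 4 ⊕ Fin k)) (Sum.inl i) = Sum.inl i) : ∃ a, blk k a = g := by
  have h1 : Set.MapsTo (g : Perm (Fin 4 ⊕ Fin k)) (Set.range Sum.inl) (Set.range Sum.inl) := by
    rintro _ ⟨i, rfl⟩
    exact ⟨i, (h i).symm⟩
  obtain ⟨⟨a, b⟩, hab⟩ := mem_sumCongrHom_range_of_perm_mapsTo_inl h1
  rw [sumCongrHom_apply] at hab
  simp only at hab
  have ha : a = 1 := by
    ext i
    have h2 := h i
    rw [← hab] at h2
    have h3 : (Sum.inl (a i) : Fin 4 ⊕ Fin k) = Sum.inl i := h2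
    rw [Sum.inl.inj h3]
    rfl
  subst ha
  have hb : sign b = 1 := by
    have h2 := mem_alternatingGroup.1 g.2
    rw [← hab] at h2
    rwa [sign_sumCongr, Perm.sign_one, one_mul] at h2
  exact ⟨⟨b, mem_alternatingGroup.2 hb⟩, Subtype.ext hab⟩

/-- even permutations of the first four points -/
def fst (k : ℕ) (a : Perm (Fin 4)) (ha : sign a = 1) : alternatingGroup (Fin 4 ⊕ Fin k) :=
  ⟨Perm.sumCongr a 1, by rw [mem_alternatingGroup, sign_sumCongr, Perm.sign_one, mul_one, ha]⟩

theorem fst_inl (a : Perm (Fin 4)) (ha : sign a = 1) (i : Fin 4) :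
    ((fst k a ha : alternatingGroup (Fin 4 ⊕ Fin k)) : Perm (Fin 4 ⊕ Fin k)) (Sum.inl i) = Sum.inl (a i) := rfl

theorem fst_inr (a : Perm (Fin 4)) (ha : sign a = 1) (i : Fin k) :
    ((fst k a ha : alternatingGroup (Fin 4 ⊕ Fin k)) : Perm (Fin 4 ⊕ Fin k)) (Sum.inr i) = Sum.inr i := rfl

theorem comm_blk (a : Perm (Fin 4)) (ha : sign a = 1) (g : alternatingGroup (Fin k)) :
    blk k g * fst k a ha = fst k a ha * blk k g := by
  apply Subtype.ext
  ext x
  rcases x with i | i <;> rfl

theorem fst_mul (a b : Perm (Fin 4)) (ha : sign a = 1) (hb : sign b = 1) (hab : sign (a * b) = 1) :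
    fst k a ha * fst k b hb = fst k (a * b) hab := by
  apply Subtype.ext
  change Perm.sumCongr a (1 : Perm (Fin k)) * Perm.sumCongr b 1 = Perm.sumCongr (a * b) 1
  rw [sumCongr_mul, one_mul]

theorem fst_inj {a b : Perm (Fin 4)} {ha : sign a = 1} {hb : sign b = 1} (h : fst k a ha = fst k b hb) : a = b := by
  ext i
  have h1 := congrArg (fun x : alternatingGroup (Fin 4 ⊕ Fin k) => (x : Perm (Fin 4 ⊕ Fin k)) (Sum.inl i)) h
  simp only [fst_inl, Sum.inl.injEq] at h1
  rw [h1]

theorem fst_one : fst k 1 Perm.sign_one = 1 := by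
  apply Subtype.ext
  exact sumCongr_one

theorem fst_ne_blk {a : Perm (Fin 4)} {ha : sign a = 1} (h : a ≠ 1) (g : alternatingGroup (Fin k)) :
    fst k a ha ≠ blk k g := by
  intro h1
  apply h
  ext i
  have h2 := congrArg (fun x : alternatingGroup (Fin 4 ⊕ Fin k) => (x : Perm (Fin 4 ⊕ Fin k)) (Sum.inl i)) h1
  simp only [fst_inl, blk_inl, Sum.inl.injEq] at h2
  rw [h2]
  rfl

/-- the double transpositions -/
def d1 : Perm (Fin 4) := swap 0 1 * swap 2 3

/-- the double transpositions -/
def d2 : Perm (Fin 4) := swap 0 2 * swap 1 3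

theorem hd1 : sign d1 = 1 := by decide

theorem hd2 : sign d2 = 1 := by decide

/-- a fixed-point-free element on the first four points: the elements commuting with it normalize the block -/
theorem conj_blk {g : alternatingGroup (Fin 4 ⊕ Fin k)} (hg : g * fst k d1 hd1 = fst k d1 hd1 * g)
    (a : alternatingGroup (Fin k)) : ∃ b, blk k b = g * blk k a * g⁻¹ := by
  -- `g` preserves the first four points
  have hmaps : ∀ h : alternatingGroup (Fin 4 ⊕ Fin k), h * fst k d1 hd1 = fst k d1 hd1 * h →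
      ∀ i, ∃ j, (h : Perm (Fin 4 ⊕ Fin k)) (Sum.inl i) = Sum.inl j := by
    intro h hh i
    have h1 := congrArg (fun x : alternatingGroup (Fin 4 ⊕ Fin k) => (x : Perm (Fin 4 ⊕ Fin k)) (Sum.inl i)) hh
    simp only [Subgroup.coe_mul, Perm.mul_apply, fst_inl] at h1
    rcases hx : (h : Perm (Fin 4 ⊕ Fin k)) (Sum.inl i) with j | j
    · exact ⟨j, rfl⟩
    · exfalso
      rw [hx, fst_inr] at h1
      have h2 := (h : Perm (Fin 4 ⊕ Fin k)).injective (h1.trans hx.symm)
      have h3 : d1 i = i := Sum.inl.inj h2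
      have h4 : ∀ i : Fin 4, d1 i ≠ i := by decide
      exact h4 i h3
  have hgi : g⁻¹ * fst k d1 hd1 = fst k d1 hd1 * g⁻¹ := by
    calc g⁻¹ * fst k d1 hd1 = g⁻¹ * (fst k d1 hd1 * g) * g⁻¹ := by group
      _ = g⁻¹ * (g * fst k d1 hd1) * g⁻¹ := by rw [hg]
      _ = fst k d1 hd1 * g⁻¹ := by group
  apply mem_blk
  intro i
  obtain ⟨j, hj⟩ := hmaps g⁻¹ hgi i
  change (g : Perm (Fin 4 ⊕ Fin k)) ((blk k a : Perm (Fin 4 ⊕ Fin k)) (((g⁻¹ : alternatingGroup (Fin 4 ⊕ Fin k)) :
    Perm (Fin 4 ⊕ Fin k)) (Sum.inl i))) = Sum.inl i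
  rw [hj, blk_inl, ← hj]
  exact (g : Perm (Fin 4 ⊕ Fin k)).apply_symm_apply _

theorem comp_alt {n : ℕ} (hn : 8 ≤ n) (hq : IsQuasisimple (alternatingGroup (Fin (n - 4)))) {G : Type u} [Group G]
    [Finite G] (e : G ≃* alternatingGroup (Fin n)) :
    ∃ (x : G) (K : Subgroup G), orderOf x = 2 ∧ PRankAtLeast 2 3 ↥(centralizer ({x} : Set G)) ∧
      IsComponentOf K (centralizer ({x} : Set G)) ∧ Nonempty (alternatingGroup (Fin (n - 4)) ≃* ↥K) := by
  obtain ⟨k, rfl⟩ : ∃ k, n = 4 + k := ⟨n - 4, by omega⟩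
  have hk : 4 ≤ k := by omega
  have hnk : 4 + k - 4 = k := by omega
  rw [hnk] at hq ⊢
  let e' : alternatingGroup (Fin 4 ⊕ Fin k) ≃* G := (Equiv.altCongrHom finSumFinEquiv).trans e.symm
  let φ : alternatingGroup (Fin 4 ⊕ Fin k) →* G := e'.toMonoidHom
  have hφ : Function.Injective φ := e'.injective
  have hker : φ.ker ≤ center _ := by
    rw [(MonoidHom.ker_eq_bot_iff φ).2 hφ]
    exact bot_le
  have hi : Function.Injective (φ.comp (blk k)) := hφ.comp blk_inj
  have hK := comp_lift φ e'.surjective hker (blk k) (y := fst k d1 hd1) hq (comm_blk d1 hd1)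
    (fun g hg a => conj_blk hg a) hi
  -- a third involution, on the last points
  let c : Perm (Fin k) := swap ⟨0, by omega⟩ ⟨1, by omega⟩ * swap ⟨2, by omega⟩ ⟨3, by omega⟩
  have hc : sign c = 1 := by
    rw [Perm.sign_mul, sign_swap (by simp [Fin.ext_iff]), sign_swap (by simp [Fin.ext_iff])]
    decide
  have hc1 : c ≠ 1 := by
    intro h
    have h1 := congrArg (fun x : Perm (Fin k) => x ⟨0, by omega⟩) h
    simp only [c, Perm.mul_apply, Perm.one_apply] at h1
    have h2 : (swap (⟨2, by omega⟩ : Fin k) ⟨3, by omega⟩) ⟨0, by omega⟩ = ⟨0, by omega⟩ :=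
      swap_apply_of_ne_of_ne (by simp [Fin.ext_iff]) (by simp [Fin.ext_iff])
    rw [h2, swap_apply_left] at h1
    simp [Fin.ext_iff] at h1
  have hcc : c * c = 1 := by
    have h1 : (swap (⟨0, by omega⟩ : Fin k) ⟨1, by omega⟩) * swap ⟨2, by omega⟩ ⟨3, by omega⟩ =
        swap ⟨2, by omega⟩ ⟨3, by omega⟩ * swap ⟨0, by omega⟩ ⟨1, by omega⟩ := by
      refine (Perm.Disjoint.commute ?_).eq
      rw [Perm.disjoint_iff_disjoint_support, support_swap (by simp [Fin.ext_iff]), support_swap (by simp [Fin.ext_iff])]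
      simp [Fin.ext_iff]
    calc c * c = swap (⟨0, by omega⟩ : Fin k) ⟨1, by omega⟩ * (swap ⟨2, by omega⟩ ⟨3, by omega⟩ *
          swap ⟨0, by omega⟩ ⟨1, by omega⟩) * swap ⟨2, by omega⟩ ⟨3, by omega⟩ := by
            simp only [c, mul_assoc]
      _ = _ := by rw [← h1]; rw [mul_assoc, mul_assoc, swap_mul_self, mul_one, swap_mul_self]
  let c' : alternatingGroup (Fin k) := ⟨c, mem_alternatingGroup.2 hc⟩
  have hcc' : c' * c' = 1 := Subtype.ext hcc
  have hc1' : c' ≠ 1 := fun h => hc1 (congrArg Subtype.val h)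
  have hx2 : fst k d1 hd1 * fst k d1 hd1 = 1 := by
    rw [fst_mul _ _ _ _ (by decide), ← fst_one]
    congr 1
    decide
  have hy2 : fst k d2 hd2 * fst k d2 hd2 = 1 := by
    rw [fst_mul _ _ _ _ (by decide), ← fst_one]
    congr 1
    decide
  have hz2 : blk k c' * blk k c' = 1 := by rw [← map_mul, hcc', map_one]
  have hxy : fst k d1 hd1 * fst k d2 hd2 = fst k d2 hd2 * fst k d1 hd1 := by
    rw [fst_mul _ _ _ _ (by decide), fst_mul _ _ _ _ (by decide)]
    congr 1
    decide
  have hxz := (comm_blk d1 hd1 c').symm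
  have hyz := (comm_blk d2 hd2 c').symm
  have hx1 : fst k d1 hd1 ≠ 1 := by
    rw [← fst_one]
    exact fun h => absurd (fst_inj h) (by decide)
  have hy1 : fst k d2 hd2 ≠ 1 := by
    rw [← fst_one]
    exact fun h => absurd (fst_inj h) (by decide)
  have hz1 : blk k c' ≠ 1 := by
    rw [← map_one (blk k)]
    exact fun h => hc1' (blk_inj h)
  refine ⟨φ (fst k d1 hd1), (φ.comp (blk k)).range, ?_, ?_, hK, ⟨MonoidHom.ofInjective hi⟩⟩
  · refine orderOf_eq_prime ?_ ?_
    · rw [pow_two, ← map_mul, hx2, map_one]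
    · rw [← map_one φ]
      exact fun h => hx1 (hφ h)
  · have hm : ∀ {a b : alternatingGroup (Fin 4 ⊕ Fin k)}, a * b = b * a → φ a * φ b = φ b * φ a := by
      intro a b h
      rw [← map_mul, h, map_mul]
    have h1' : ∀ {a : alternatingGroup (Fin 4 ⊕ Fin k)}, a ≠ 1 → φ a ≠ 1 := by
      intro a h h'
      exact h (hφ (h'.trans (map_one φ).symm))
    refine three_invol
      (u := (⟨φ (fst k d1 hd1), mem_centralizer_singleton_iff.2 rfl⟩ :
        ↥(centralizer ({φ (fst k d1 hd1)} : Set G))))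
      (v := ⟨φ (fst k d2 hd2), mem_centralizer_singleton_iff.2 (hm hxy).symm⟩)
      (w := ⟨φ (blk k c'), mem_centralizer_singleton_iff.2 (hm hxz).symm⟩) ?_ ?_ ?_ ?_ ?_ ?_ ?_ ?_ ?_ ?_ ?_ ?_ ?_
    · exact Subtype.ext (by change φ _ * φ _ = 1; rw [← map_mul, hx2, map_one])
    · exact Subtype.ext (by change φ _ * φ _ = 1; rw [← map_mul, hy2, map_one])
    · exact Subtype.ext (by change φ _ * φ _ = 1; rw [← map_mul, hz2, map_one])
    · exact Subtype.ext (hm hxy)
    · exact Subtype.ext (hm hxz)
    · exact Subtype.ext (hm hyz)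
    · exact fun h => h1' hx1 (congrArg Subtype.val h)
    · exact fun h => h1' hy1 (congrArg Subtype.val h)
    · exact fun h => h1' hz1 (congrArg Subtype.val h)
    · exact fun h => absurd (fst_inj (hφ (congrArg Subtype.val h))) (by decide)
    · exact fun h => fst_ne_blk (by decide) _ (hφ (congrArg Subtype.val h))
    · exact fun h => fst_ne_blk (by decide) _ (hφ (congrArg Subtype.val h))
    · intro h
      have h2 : φ (fst k d1 hd1 * fst k d2 hd2) = φ (blk k c') := by
        rw [map_mul]
        exact congrArg Subtype.val h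
      have h3 := hφ h2
      rw [fst_mul _ _ _ _ (by decide)] at h3
      exact fst_ne_blk (by decide) _ h3

/-- **`A_n`, `n ≥ 13`** -/
theorem gen_alt {n : ℕ} (hn : 13 ≤ n) (h : InGp 2 (alternatingGroup (Fin (n - 4)))) {G : Type u} [Group G]
    [Finite G] (e : G ≃* alternatingGroup (Fin n)) : LpoExists 2 G (InGp 2) := by
  obtain ⟨x, K, hx, hr, hK, ⟨E⟩⟩ := comp_alt (by omega : 8 ≤ n) h.1 e
  refine OddTab.lpoExists_of_comp_self hx hr hK ?_ ?_ (fun A B _ _ e' h => (OddTab.inGp_iff e' 2).1 h)
    ((OddTab.inGp_iff E 2).1 h)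
  · intro hc
    rw [← Nat.card_congr E.toEquiv] at hc
    have hne : Nontrivial (Fin (n - 4)) := ⟨⟨0, by omega⟩, ⟨1, by omega⟩, by simp [Fin.ext_iff]⟩
    have h5 : 2 ∣ Nat.card (alternatingGroup (Fin (n - 4))) := by
      have h6 := two_mul_nat_card_alternatingGroup (α := Fin (n - 4))
      rw [Nat.card_perm, Nat.card_eq_fintype_card (α := Fin (n - 4)), Fintype.card_fin] at h6
      have h7 : 4 ∣ (n - 4).factorial := (by decide : 4 ∣ Nat.factorial 4).trans (Nat.factorial_dvd_factorial (by omega))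
      rw [← h6] at h7
      obtain ⟨t, ht⟩ := h7
      exact ⟨t, by omega⟩
    have h6 := Nat.dvd_gcd h5 (dvd_refl 2)
    rw [hc] at h6
    exact absurd h6 (by decide)
  · exact (CpQuot.Congr.isPGroup_iff (CpQuot.Congr.ce E) 2).1 h.2.1

end

end Cfsg.Agent.GenAlt

private theorem dce_6cabf0ddf927 : _root_.True := by
  try have : _root_.True := by simp only [_root_.Cfsg.Agent.GenAlt.fst.congr_simp]
  exact _root_.True.intro
end
end
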